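import Cfsg.Agent.Lib.FrobAut20.Tools
import Cfsg.Agent.Lib.Coprime85.Invariant
import Cfsg.Agent.Lib.LocalEven.InvFreeZJ
import Cfsg.Agent.Lib.Involutions.BaerSuzuki
import Cfsg.Agent.Lib.Structure.NilpotentMaximal
import Cfsg.Agent.Lib.BenderQ.Residual.Nilp
import Cfsg.Agent.Lib.PF.OddOrder

/-!
Coprime action in which the maximal invariant subgroups of order divisible by `p` are nilpotent:
the group is solvable.

For odd `p` the normalizer of `ZJ` of an invariant Sylow subgroup gives a normal `p`-complement.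
For `p = 2` no element of odd prime power order is inverted in the normalizers of `ZJ`, hence in
the whole group, and Baer–Suzuki gives a normal `2`-subgroup.
-/

set_option autoImplicit false
set_option linter.style.haveILetI false

namespace CfsgLib.CoprimeNilMax

open CfsgLib.FrobAut20 CfsgLib.PLocal CfsgLib.LocalEven.Inversion
open Pointwise

universe u v

variable {A : Type v} [Group A] {G : Type u} [Group G] [MulDistribMulAction A G]

/-- Invariant proper subgroups of order divisible by `p` are nilpotent. -/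
def Hyp (A : Type v) [Group A] (p : ℕ) (G : Type u) [Group G] [MulDistribMulAction A G] : Prop :=
  ∀ H : Subgroup G, H ≠ ⊤ → IsInv A H → p ∣ Nat.card H → Group.IsNilpotent H

theorem hyp_of_maximal [Finite G] {p : ℕ}
    (hmax : ∀ H : Subgroup G, H ≠ ⊤ → (∀ a : A, ∀ x ∈ H, a • x ∈ H) →
      (∀ K : Subgroup G, H < K → (∀ a : A, ∀ x ∈ K, a • x ∈ K) → K = ⊤) → p ∣ Nat.card H →
        Group.IsNilpotent H) : Hyp A p G := by
  intro H hH hHi hp
  obtain ⟨K, hHK, ⟨hKt, hKi⟩, hKmax⟩ :=
    (Set.toFinite {K : Subgroup G | K ≠ ⊤ ∧ IsInv A K}).exists_le_maximal (a := H) ⟨hH, hHi⟩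
  have hKn := hmax K hKt hKi (fun L hL hLi => by
    by_contra hne
    exact hL.not_ge (hKmax ⟨hne, hLi⟩ hL.le)) (hp.trans (Subgroup.card_dvd_of_le hHK))
  exact Group.nilpotent_of_mulEquiv (Subgroup.subgroupOfEquivOfLe hHK)

theorem isInv_char (H : Subgroup G) [hH : H.Characteristic] : IsInv A H := by
  intro a x hx
  have h := Subgroup.characteristic_iff_comap_eq.1 hH (MulDistribMulAction.toMulEquiv G a)
  rw [← h] at hx
  exact hx

theorem isInv_pResidual (p : ℕ) : IsInv A (Cfsg.pResidual p G) :=
  IsInv.closure fun a x hx => Subgroup.subset_closure (by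
    show (orderOf (MulDistribMulAction.toMulEquiv G a x)).Coprime p
    rwa [MulEquiv.orderOf_eq])

theorem isInv_zj {P : Subgroup G} (hP : IsInv A P) (e : ℕ) : IsInv A (zj e P) := by
  intro a x hx
  have h := zj_map (e := e) (f := MulDistribMulAction.toMonoidHom G a)
    (MulDistribMulAction.toMulEquiv G a).injective P
  rw [hP.map_eq a] at h
  rw [h]
  exact ⟨x, hx, rfl⟩

theorem hyp_quot {N : Subgroup G} [N.Normal] (hN : IsInv A N) {p q : ℕ} (h : Hyp A p G)
    (hd : ∀ H : Subgroup (G ⧸ N), q ∣ Nat.card H → p ∣ Nat.card (H.comap (QuotientGroup.mk' N))) :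
    letI := quotAct hN
    Hyp A q (G ⧸ N) := by
  letI := quotAct hN
  intro H hH hHi hq
  haveI := h (H.comap (QuotientGroup.mk' N))
    (fun he => hH (Subgroup.comap_injective (QuotientGroup.mk'_surjective N)
      (he.trans (Subgroup.comap_top _).symm)))
    (fun a x hx => hHi a _ hx) (hd H hq)
  exact Group.nilpotent_of_surjective _
    ((QuotientGroup.mk' N).subgroupComap_surjective_of_surjective H (QuotientGroup.mk'_surjective N))

/-- An element of odd prime order is not inverted in a nilpotent or odd order subgroup. -/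
theorem invFree_of_nilpotent_or_odd [Finite G] {q : ℕ} [Fact q.Prime] (hq : q ≠ 2) {X : Subgroup G}
    (h : Group.IsNilpotent X ∨ Odd (Nat.card X)) : InvFree q X := by
  intro x hx g hg hk he
  have hodd := odd_of_prime_pow hq hk
  rcases h with h | h
  · obtain ⟨m, hm, i, hi⟩ := exists_odd_pow g
    refine eq_one_of_commute hodd (inverts_pow_odd he hm)
      (BenderQ.Residual.commute_of_nilpotent h (pow_mem hg m) hx ?_)
    rw [hi]
    exact (Nat.coprime_two_left.2 hodd).pow_left i
  · have h2 := inverts_pow_odd he (h.of_dvd_nat (X.orderOf_dvd_natCard hg))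
    rw [pow_orderOf_eq_one] at h2
    exact eq_one_of_commute hodd h2 (Commute.one_left x)

/-- An involution is in a normal `2`-subgroup, if no element of odd prime power order is inverted. -/
theorem mem_pCore_two [Finite G] [Fact (Nat.Prime 2)]
    (h : ∀ (q : ℕ) [Fact q.Prime], q ≠ 2 → InvFree q (⊤ : Subgroup G)) {t : G}
    (ht : orderOf t = 2) : t ∈ Cfsg.pCore 2 G := by
  obtain ⟨N, hN, hNp, htN⟩ := Involutions.exists_normal_isPGroup_of_mem (p := 2) (x := t) fun g => by
    set w := g * t * g⁻¹ with hw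
    set c := t * w with hc
    have htt : t⁻¹ = t := inv_eq_of_mul_eq_one_left (by
      have := pow_orderOf_eq_one t
      rwa [ht, pow_two] at this)
    have hww : w⁻¹ = w := by rw [hw, conj_inv, htt]
    have hinv : t * c * t⁻¹ = c⁻¹ := by
      rw [hc, mul_inv_rev, hww, htt, show t * (t * w) = w by
        rw [← mul_assoc, show t * t = 1 by rw [← inv_eq_iff_mul_eq_one, htt], one_mul]]
    obtain ⟨k, m, hm, hcm⟩ := Nat.exists_eq_two_pow_mul_odd (orderOf_pos c).ne'
    have hm1 : m = 1 := by
      by_contra hne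
      obtain ⟨q, hq, hqm⟩ := Nat.exists_prime_and_dvd hne
      haveI := Fact.mk hq
      have hq2 : q ≠ 2 := by
        rintro rfl
        exact Nat.not_even_iff_odd.2 hm (even_iff_two_dvd.2 hqm)
      have hqc : q ∣ orderOf c := hcm ▸ hqm.mul_left _
      have hx : orderOf (c ^ (orderOf c / q)) = q :=
        orderOf_pow_orderOf_div (orderOf_pos c).ne' hqc
      have h1 := h q hq2 _ trivial t trivial ⟨1, by rw [hx, pow_one]⟩
        (by rw [← conj_pow, hinv, inv_pow])
      rw [h1, orderOf_one] at hx
      exact hq.ne_one hx.symm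
    have hn : Subgroup.zpowers t ≤ Subgroup.normalizer (Subgroup.zpowers c : Set G) :=
      Subgroup.zpowers_le.2 (Coprime.mem_normalizer_of_forall_conj fun y hy => by
        obtain ⟨j, rfl⟩ := Subgroup.mem_zpowers_iff.1 hy
        rw [← conj_zpow, hinv]
        exact Subgroup.zpow_mem _ (Subgroup.inv_mem _ (Subgroup.mem_zpowers c)) j)
    have hd := Coprime.card_sup_dvd hn
    rw [Nat.card_zpowers, Nat.card_zpowers, ht, hcm, hm1, mul_one, ← pow_succ'] at hd
    obtain ⟨j, -, hj⟩ := (Nat.dvd_prime_pow Nat.prime_two).1 hd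
    refine (IsPGroup.of_card hj).to_le ((Subgroup.closure_le _).2 ?_)
    rintro y (rfl | rfl)
    · exact Subgroup.mem_sup_left (Subgroup.mem_zpowers _)
    · have hw' : w = t⁻¹ * c := by rw [hc, inv_mul_cancel_left]
      rw [hw']
      exact Subgroup.mul_mem _ (Subgroup.mem_sup_left (Subgroup.inv_mem _ (Subgroup.mem_zpowers _)))
        (Subgroup.mem_sup_right (Subgroup.mem_zpowers _))
  exact PCore.le_pCore hN hNp htN

omit [MulDistribMulAction A G] in
theorem isSolvable_of_coprime [Finite A] [Finite G] (hcop : (Nat.card A).Coprime (Nat.card G)) :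
    Group.IsSolvable A ∨ Group.IsSolvable G := by
  rcases Nat.even_or_odd (Nat.card G) with h | h
  · refine Or.inl (PF.oddSolvable A (Nat.not_even_iff_odd.1 fun hA => ?_))
    exact Nat.not_coprime_of_dvd_of_dvd one_lt_two hA.two_dvd h.two_dvd hcop
  · exact Or.inr (PF.oddSolvable G h)

/-- The action on an invariant subgroup. -/
@[reducible] def subAct {N : Subgroup G} (hN : IsInv A N) : MulDistribMulAction A N where
  smul a x := ⟨a • (x : G), hN a x x.2⟩
  one_smul x := Subtype.ext (one_smul A (x : G))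
  mul_smul a b x := Subtype.ext (mul_smul a b (x : G))
  smul_mul a x y := Subtype.ext (smul_mul' a (x : G) (y : G))
  smul_one a := Subtype.ext (smul_one (a : A))

/-- An invariant Sylow subgroup of an invariant subgroup. -/
theorem exists_sylow_of_inv [Finite A] [Finite G] (hcop : (Nat.card A).Coprime (Nat.card G))
    {N : Subgroup G} (hN : IsInv A N) (q : ℕ) [Fact q.Prime] :
    ∃ Q : Sylow q N, IsInv A ((Q : Subgroup N).map N.subtype) := by
  letI := subAct hN
  have hc := hcop.coprime_dvd_right (Subgroup.card_subgroup_dvd_card N)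
  obtain ⟨Q, hQ⟩ := Coprime85.exists_invariant_sylow hc (isSolvable_of_coprime hc) q
  refine ⟨Q, ?_⟩
  rintro a _ ⟨x, hx, rfl⟩
  exact ⟨a • x, hQ a x hx, rfl⟩

theorem isSolvable_of_hyp [Finite A] : ∀ (n : ℕ) {G : Type u} [Group G] [Finite G]
    [MulDistribMulAction A G], Nat.card G = n → (Nat.card A).Coprime (Nat.card G) →
    ∀ p : ℕ, p.Prime → p ∣ Nat.card G → Hyp A p G → Group.IsSolvable G := by
  intro n
  induction n using Nat.strong_induction_on with
  | _ n IH =>
  intro G _ _ _ hn hcop p hp hpG hyp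
  subst hn
  haveI := Fact.mk hp
  by_contra hns
  -- no solvable invariant normal subgroup
  have hR : ∀ R : Subgroup G, R.Normal → IsInv A R → Group.IsSolvable R → R = ⊥ := by
    intro R hRn hRi hRs
    by_contra hne
    refine hns ?_
    haveI := hRn
    haveI := hRs
    letI := quotAct hRi
    have hmul := Subgroup.card_eq_card_quotient_mul_card_subgroup R
    have hlt : Nat.card (G ⧸ R) < Nat.card G := by
      rw [hmul]
      exact (Nat.lt_mul_iff_one_lt_right Nat.card_pos).2 (R.one_lt_card_iff_ne_bot.2 hne)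
    have hc : (Nat.card A).Coprime (Nat.card (G ⧸ R)) := hcop.coprime_dvd_right (Dvd.intro _ hmul.symm)
    have hle : ∀ H : Subgroup (G ⧸ R), R ≤ H.comap (QuotientGroup.mk' R) := fun H x hx => by
      rw [Subgroup.mem_comap, QuotientGroup.mk'_apply, (QuotientGroup.eq_one_iff x).2 hx]
      exact one_mem H
    have hQ : Group.IsSolvable (G ⧸ R) := by
      by_cases hpR : p ∣ Nat.card R
      · by_cases h1 : Nat.card (G ⧸ R) = 1
        · haveI := (Nat.card_eq_one_iff_unique.1 h1).1
          infer_instance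
        · obtain ⟨q, hq, hqd⟩ := Nat.exists_prime_and_dvd h1
          exact IH _ hlt rfl hc q hq hqd
            (hyp_quot hRi hyp fun H _ => hpR.trans (Subgroup.card_dvd_of_le (hle H)))
      · have hpQ : p ∣ Nat.card (G ⧸ R) := (hp.dvd_mul.1 (hmul ▸ hpG)).resolve_right hpR
        refine IH _ hlt rfl hc p hp hpQ (hyp_quot hRi hyp fun H hH => hH.trans ?_)
        exact Subgroup.card_dvd_of_surjective _
          ((QuotientGroup.mk' R).subgroupComap_surjective_of_surjective H
            (QuotientGroup.mk'_surjective R))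
    haveI := hQ
    exact Group.isSolvable_of_ker_le_range R.subtype (QuotientGroup.mk' R)
      (by rw [QuotientGroup.ker_mk', Subgroup.range_subtype])
  obtain ⟨P, hPi⟩ := Coprime85.exists_invariant_sylow hcop (isSolvable_of_coprime hcop) p
  have hPsolv : ∀ {q : ℕ} [Fact q.Prime] {Q : Subgroup G}, IsPGroup q Q → Group.IsSolvable Q :=
    fun hQ => haveI := hQ.isNilpotent; inferInstance
  have hPne : (P : Subgroup G) ≠ ⊥ := P.ne_bot_of_dvd_card hpG
  have hpP : p ∣ Nat.card (P : Subgroup G) := by
    rw [P.card_eq_multiplicity]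
    exact dvd_pow_self p (hp.factorization_pos_of_dvd Nat.card_pos.ne' hpG).ne'
  have hPnn : ¬ (P : Subgroup G).Normal := fun h => hPne (hR _ h hPi (hPsolv P.isPGroup'))
  -- no invariant normal subgroup
  have hsimp : ∀ N : Subgroup G, N.Normal → IsInv A N → N = ⊥ ∨ N = ⊤ := by
    intro N hNn hNi
    by_contra hcon
    push Not at hcon
    obtain ⟨hN0, hN1⟩ := hcon
    haveI := hNn
    by_cases hpN : p ∣ Nat.card N
    · haveI := hyp N hN1 hNi hpN
      exact hN0 (hR N hNn hNi inferInstance)
    have hNns : ¬ Group.IsSolvable N := fun h => hN0 (hR N hNn hNi h)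
    have hNP : N ⊔ (P : Subgroup G) = ⊤ := by
      by_contra hne
      haveI := hyp _ hne (hNi.sup hPi)
        (hpP.trans (Subgroup.card_dvd_of_le le_sup_right))
      exact hNns (Group.isSolvable_of_isSolvable_injective
        (Subgroup.inclusion_injective (le_sup_left : N ≤ N ⊔ (P : Subgroup G))))
    suffices hC : N ≤ Subgroup.centralizer (P : Set G) by
      refine hPnn (Subgroup.normalizer_eq_top_iff.1 (top_le_iff.1 (hNP ▸ sup_le ?_ Subgroup.le_normalizer)))
      exact hC.trans (Subgroup.centralizer_le_normalizer _)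
    set C := N ⊓ Subgroup.centralizer (P : Set G) with hCdef
    suffices hdvd : Nat.card N ∣ Nat.card C by
      rw [← Subgroup.eq_of_le_of_card_ge (inf_le_left : C ≤ N) (Nat.le_of_dvd Nat.card_pos hdvd)]
      exact inf_le_right
    refine (Nat.factorization_le_iff_dvd Nat.card_pos.ne' Nat.card_pos.ne').1 fun q => ?_
    by_cases hqN : q.Prime ∧ q ∣ Nat.card N
    swap
    · have : (Nat.card N).factorization q = 0 := by
        rw [Nat.factorization_eq_zero_iff]
        tauto
      rw [this]; exact Nat.zero_le _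
    obtain ⟨hq, hqd⟩ := hqN
    haveI := Fact.mk hq
    obtain ⟨Q, hQi⟩ := exists_sylow_of_inv hcop hNi q
    set Q' := (Q : Subgroup N).map N.subtype with hQ'
    have hQcard : Nat.card Q' = q ^ (Nat.card N).factorization q := by
      rw [hQ', Subgroup.card_subtype]; exact Q.card_eq_multiplicity
    set M := Subgroup.normalizer (Q' : Set G) with hM
    have hM1 : M ≠ ⊤ := fun h => by
      have h0 := hR Q' (Subgroup.normalizer_eq_top_iff.1 h) hQi (hPsolv (Q.isPGroup'.map _))
      rw [hQ', Subgroup.map_eq_bot_iff_of_injective _ N.subtype_injective] at h0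
      exact Q.ne_bot_of_dvd_card hqd h0
    have hfr : M ⊔ N = ⊤ := Sylow.normalizer_sup_eq_top Q
    have hdiv : Nat.card G ∣ Nat.card M * Nat.card N := by
      have := Coprime.card_sup_dvd (H := M) (N := N) (by rw [Subgroup.normalizer_eq_top N]; exact le_top)
      rwa [hfr, Subgroup.card_top] at this
    have hpM : p ^ (Nat.card G).factorization p ∣ Nat.card M :=
      (((hp.coprime_iff_not_dvd.2 hpN).pow_left _).dvd_of_dvd_mul_right
        ((Nat.ordProj_dvd _ _).trans hdiv))
    obtain ⟨S₀, hS₀⟩ := Sylow.exists_subgroup_card_pow_prime p hpM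
    let S : Sylow p G := Sylow.ofCard (S₀.map M.subtype) (by rw [Subgroup.card_subtype, hS₀])
    have hpos : (Nat.card G).factorization p ≠ 0 :=
      (hp.factorization_pos_of_dvd Nat.card_pos.ne' hpG).ne'
    have hMn := hyp M hM1 hQi.normalizer ((dvd_pow_self p hpos).trans hpM)
    have hcent : ∀ s ∈ (S : Subgroup G), ∀ y ∈ Q', Commute s y := by
      intro s hs y hy
      refine BenderQ.Residual.commute_of_nilpotent hMn (Subgroup.map_subtype_le _ hs)
        (Subgroup.le_normalizer hy) ?_
      obtain ⟨k, hk⟩ := IsPGroup.iff_orderOf.1 S.isPGroup' ⟨s, hs⟩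
      rw [Subgroup.orderOf_mk] at hk
      rw [hk]
      refine ((hp.coprime_iff_not_dvd.2 fun hd => hpN ?_).pow_left k)
      exact hd.trans (N.orderOf_dvd_natCard (Subgroup.map_subtype_le _ hy))
    obtain ⟨g, hg⟩ := MulAction.exists_smul_eq G S P
    refine (hq.pow_dvd_iff_le_factorization Nat.card_pos.ne').1 (hQcard ▸ ?_)
    rw [← Subgroup.card_map_of_injective (K := Q')
      (show Function.Injective (MulAut.conj g).toMonoidHom from (MulAut.conj g).injective)]
    refine Subgroup.card_dvd_of_le ?_
    rintro _ ⟨y, hy, rfl⟩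
    refine ⟨hNn.conj_mem y (Subgroup.map_subtype_le _ hy) g, Subgroup.mem_centralizer_iff.2 ?_⟩
    intro z hz
    rw [← hg] at hz
    have hz' : z ∈ MulAut.conj g • (S : Subgroup G) := hz
    obtain ⟨s, hs, rfl⟩ := hz'
    exact ((hcent s hs y hy).map (MulAut.conj g).toMonoidHom).eq
  by_cases hp2 : p = 2
  · -- `p = 2`
    subst hp2
    have hfree : ∀ (q : ℕ) [Fact q.Prime], q ≠ 2 → InvFree q (⊤ : Subgroup G) := by
      intro q _ hq2
      obtain ⟨Q, hQi⟩ := Coprime85.exists_invariant_sylow hcop (isSolvable_of_coprime hcop) q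
      by_cases hQ0 : (Q : Subgroup G) = ⊥
      · intro x _ g _ hk _
        obtain ⟨k, hk⟩ := hk
        have hx : IsPGroup q (Subgroup.zpowers x) :=
          IsPGroup.of_card (n := k) (by rw [Nat.card_zpowers, hk])
        obtain ⟨R, hR'⟩ := hx.exists_le_sylow
        have hR0 : (R : Subgroup G) = ⊥ := by
          rw [← Subgroup.card_eq_one, R.card_eq_multiplicity, ← Q.card_eq_multiplicity, hQ0,
            Subgroup.card_bot]
        have := hR' (Subgroup.mem_zpowers x)
        rwa [hR0, Subgroup.mem_bot] at this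
      refine invFree_of_normalizer_zj hq2 Q ?_
      set X := Subgroup.normalizer (zj 0 (Q : Subgroup G) : Set G) with hX
      have hXi : IsInv A X := (isInv_zj hQi 0).normalizer
      have hX1 : X ≠ ⊤ := fun h => Frobenius.ZJComp.zj_ne_bot (Or.inl rfl) Q.isPGroup' hQ0
        (hR _ (Subgroup.normalizer_eq_top_iff.1 h) (isInv_zj hQi 0)
          (hPsolv (Q.isPGroup'.to_le (zj_le 0 _))))
      refine invFree_of_nilpotent_or_odd hq2 ?_
      rcases Nat.even_or_odd (Nat.card X) with h | h
      · exact Or.inl (hyp X hX1 hXi h.two_dvd)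
      · exact Or.inr h
    obtain ⟨t, ht⟩ := exists_prime_orderOf_dvd_card' 2 hpG
    have htO := mem_pCore_two hfree ht
    haveI : Group.IsSolvable (Cfsg.pCore 2 G) := hPsolv PCore.pCore_isPGroup
    rcases hsimp (Cfsg.pCore 2 G) inferInstance (isInv_char _) with h | h
    · rw [h, Subgroup.mem_bot] at htO
      rw [htO, orderOf_one] at ht
      omega
    · have h' : IsPGroup 2 (⊤ : Subgroup G) := h ▸ PCore.pCore_isPGroup
      haveI := (h'.of_equiv Subgroup.topEquiv).isNilpotent
      exact hns inferInstance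
  · -- `p` odd
    set X := Subgroup.normalizer (zj 0 (P : Subgroup G) : Set G) with hX
    have hX1 : X ≠ ⊤ := fun h => Frobenius.ZJComp.zj_ne_bot (Or.inl rfl) P.isPGroup' hPne
      (hR _ (Subgroup.normalizer_eq_top_iff.1 h) (isInv_zj hPi 0)
        (hPsolv (P.isPGroup'.to_le (zj_le 0 _))))
    have hpX : p ∣ Nat.card X := by
      have hPX := Subgroup.card_dvd_of_le (le_normalizer_zj 0 (P : Subgroup G))
      rw [P.card_eq_multiplicity] at hPX
      exact (dvd_pow_self p (hp.factorization_pos_of_dvd Nat.card_pos.ne' hpG).ne').trans hPX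
    haveI := hyp X hX1 (isInv_zj hPi 0).normalizer hpX
    have hc := Frobenius.ZJComp.hasNormalPComplement_of_zj hp2 (Or.inl rfl) P
      (NilpotentMaximal.hasNormalPComplement_of_isNilpotent p)
    rw [Transfer.hasNormalPComplement_iff] at hc
    rcases hsimp _ Transfer.pResidual_normal (isInv_pResidual p) with h | h
    · have h' := Transfer.isPGroup_quotient_of_pResidual_le (p := p) (⊥ : Subgroup G) h.le
      haveI := (h'.of_equiv QuotientGroup.quotientBot).isNilpotent
      exact hns inferInstance
    · rw [h, Subgroup.card_top] at hc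
      exact hc hpG

theorem main [Finite A] [Finite G] (hcop : (Nat.card A).Coprime (Nat.card G)) {p : ℕ} (hp : p.Prime)
    (hpG : p ∣ Nat.card G)
    (hmax : ∀ H : Subgroup G, H ≠ ⊤ → (∀ a : A, ∀ x ∈ H, a • x ∈ H) →
      (∀ K : Subgroup G, H < K → (∀ a : A, ∀ x ∈ K, a • x ∈ K) → K = ⊤) → p ∣ Nat.card H →
        Group.IsNilpotent H) : Group.IsSolvable G :=
  isSolvable_of_hyp _ rfl hcop p hp hpG (hyp_of_maximal hmax)

end CfsgLib.CoprimeNilMax
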